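import Groth.Agent.DynLib.Functorial
import Mathlib

/-!
# Hopf ideals of powers, and translation of ideals vanishing near the unit
-/

set_option autoImplicit false
set_option linter.style.haveILetI false
set_option maxHeartbeats 800000

universe u

open TensorProduct WithConv

noncomputable section

namespace Groth.Agent.FinTest

attribute [local instance] Groth.Agent.DynLib.pointsGroup

variable {k : Type u} [Field k] {A B : Type u} [CommRing A] [HopfAlgebra k A] [CommRing B] [HopfAlgebra k B]

/-- A finitely generated algebra with finitely many geometric points is finite. -/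
theorem finite_of_finite_points {k : Type u} [Field k] (P : Type u) [CommRing P] [Algebra k P] [Algebra.FiniteType k P]
    (h : Finite (P →ₐ[k] AlgebraicClosure k)) : Module.Finite k P := by
  classical
  haveI : IsNoetherianRing P := Algebra.FiniteType.isNoetherianRing k P
  haveI : IsJacobsonRing P := isJacobsonRing_of_finiteType (A := k)
  have hmax : ∀ m : Ideal P, m.IsMaximal → ∃ g : P →ₐ[k] AlgebraicClosure k, RingHom.ker g = m := fun m hm => by
    letI := Ideal.Quotient.field m
    haveI : Module.Finite k (P ⧸ m) := finite_of_finite_type_of_isJacobsonRing k _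
    let j : (P ⧸ m) →ₐ[k] AlgebraicClosure k := IsAlgClosed.lift
    refine ⟨j.comp (Ideal.Quotient.mkₐ k m), Ideal.ext fun x => ?_⟩
    show j (Ideal.Quotient.mk m x) = 0 ↔ _
    rw [map_eq_zero_iff j (RingHom.injective (j : (P ⧸ m) →+* AlgebraicClosure k)), Ideal.Quotient.eq_zero_iff_mem]
  haveI : Ring.KrullDimLE 0 P := Ring.krullDimLE_zero_iff.2 fun p hp => by
    haveI := Fintype.ofFinite (P →ₐ[k] AlgebraicClosure k)
    by_contra hne
    let S : Finset (P →ₐ[k] AlgebraicClosure k) :=
      Finset.univ.filter fun g => p ≤ RingHom.ker g ∧ (RingHom.ker g).IsMaximal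
    have hle : S.inf (fun g => RingHom.ker g) ≤ p := by
      intro x hx
      rw [← IsJacobsonRing.out' p hp.isRadical, Ideal.jacobson, Submodule.mem_sInf]
      rintro m ⟨hpm, hm⟩
      obtain ⟨g, rfl⟩ := hmax m hm
      exact Finset.inf_le (f := fun g => RingHom.ker g) (Finset.mem_filter.2 ⟨Finset.mem_univ g, hpm, hm⟩) hx
    obtain ⟨g, hg, hgp⟩ := (Ideal.IsPrime.inf_le' hp).1 hle
    obtain ⟨-, hpg, hgm⟩ := Finset.mem_filter.1 hg
    exact hne ((le_antisymm hpg hgp) ▸ hgm)
  haveI : IsArtinianRing P := IsNoetherianRing.isArtinianRing_of_krullDimLE_zero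
  exact (Module.finite_iff_isArtinianRing k P).2 inferInstance

/-- The counit. -/
abbrev eps (k B : Type u) [Field k] [CommRing B] [HopfAlgebra k B] : B →ₐ[k] k := Bialgebra.counitAlgHom k B

theorem sub_eps_mem (b : B) : eps k B (b - algebraMap k B (eps k B b)) = 0 := by
  rw [map_sub, AlgHom.commutes, Algebra.algebraMap_self, RingHom.id_apply, sub_self]

/-- A bialgebra map commutes with the antipodes. -/
theorem antipode_comm (π : B →ₐc[k] A) :
    (HopfAlgebra.antipodeAlgHom k A).comp (π : B →ₐ[k] A) =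
      (π : B →ₐ[k] A).comp (HopfAlgebra.antipodeAlgHom k B) := by
  have h := map_inv (DynLib.pull π (R := A)) (toConv (AlgHom.id k A))
  exact congrArg WithConv.ofConv h

/-- Criterion for the comultiplication condition of a Hopf ideal. -/
theorem map_mkQ_eq_zero (I : Ideal B) (z : B ⊗[k] B)
    (h : Algebra.TensorProduct.map (Ideal.Quotient.mkₐ k I) (Ideal.Quotient.mkₐ k I) z = 0) :
    TensorProduct.map (I.restrictScalars k).mkQ (I.restrictScalars k).mkQ z = 0 := by
  let e : (B ⧸ I) →ₗ[k] B ⧸ I.restrictScalars k := (Submodule.Quotient.restrictScalarsEquiv k I).symm.toLinearMap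
  have key : TensorProduct.map (I.restrictScalars k).mkQ (I.restrictScalars k).mkQ =
      (TensorProduct.map e e).comp
        (Algebra.TensorProduct.map (Ideal.Quotient.mkₐ k I) (Ideal.Quotient.mkₐ k I)).toLinearMap := by
    ext a b
    rfl
  rw [key, LinearMap.comp_apply]
  show TensorProduct.map e e _ = 0
  rw [show (Algebra.TensorProduct.map (Ideal.Quotient.mkₐ k I) (Ideal.Quotient.mkₐ k I)).toLinearMap z = 0 from h,
    map_zero]

/-- The ideal generated by a set stable under the relevant operations is a Hopf ideal. -/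
theorem isHopfIdeal_span (s : Set B) (h₁ : ∀ x ∈ s, eps k B x = 0)
    (h₂ : ∀ x ∈ s, HopfAlgebra.antipodeAlgHom k B x ∈ Ideal.span s)
    (h₃ : ∀ x ∈ s, Algebra.TensorProduct.map (Ideal.Quotient.mkₐ k (Ideal.span s)) (Ideal.Quotient.mkₐ k (Ideal.span s))
      (Bialgebra.comulAlgHom k B x) = 0) : (Ideal.span s).IsHopfIdeal k := by
  have e₁ : Ideal.span s ≤ RingHom.ker (eps k B) := Ideal.span_le.2 h₁
  have e₂ : Ideal.span s ≤ (Ideal.span s).comap (HopfAlgebra.antipodeAlgHom k B) := Ideal.span_le.2 h₂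
  have e₃ : Ideal.span s ≤ RingHom.ker ((Algebra.TensorProduct.map (Ideal.Quotient.mkₐ k (Ideal.span s))
      (Ideal.Quotient.mkₐ k (Ideal.span s))).comp (Bialgebra.comulAlgHom k B)) := Ideal.span_le.2 h₃
  haveI : ((Ideal.span s).restrictScalars k).IsCoideal :=
    ⟨fun x hx => e₁ hx, fun x hx => map_mkQ_eq_zero _ _ (e₃ hx)⟩
  exact ⟨fun x hx => e₂ hx⟩

/-- The ideal of the kernel of a homomorphism. -/
def kerIdeal (π : B →ₐc[k] A) : Ideal A := Ideal.span ((π : B →ₐ[k] A) '' {b | eps k B b = 0})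

theorem mk_comp_eq (π : B →ₐc[k] A) :
    (Ideal.Quotient.mkₐ k (kerIdeal π)).comp (π : B →ₐ[k] A) = (Algebra.ofId k _).comp (eps k B) := by
  refine AlgHom.ext fun b => ?_
  have h : Ideal.Quotient.mkₐ k (kerIdeal π) ((π : B →ₐ[k] A) (b - algebraMap k B (eps k B b))) = 0 :=
    Ideal.Quotient.eq_zero_iff_mem.2 (Ideal.subset_span ⟨_, sub_eps_mem b, rfl⟩)
  rw [map_sub, map_sub, AlgHom.commutes, AlgHom.commutes, sub_eq_zero] at h
  exact h

theorem eps_comp (π : B →ₐc[k] A) (b : B) : eps k A ((π : B →ₐ[k] A) b) = eps k B b :=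
  CoalgHomClass.counit_comp_apply π b

theorem isHopfIdeal_kerIdeal (π : B →ₐc[k] A) : (kerIdeal π).IsHopfIdeal k := by
  refine isHopfIdeal_span _ ?_ ?_ ?_
  · rintro _ ⟨b, hb, rfl⟩
    rw [eps_comp]
    exact hb
  · rintro _ ⟨b, hb, rfl⟩
    refine Ideal.subset_span ⟨HopfAlgebra.antipodeAlgHom k B b, ?_, (DFunLike.congr_fun (antipode_comm π) b).symm⟩
    show eps k B (HopfAlgebra.antipode k b) = 0
    exact (HopfAlgebra.counit_antipode b).trans hb
  · rintro _ ⟨b, hb, rfl⟩
    have hc : Bialgebra.comulAlgHom k A ((π : B →ₐ[k] A) b) =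
        Algebra.TensorProduct.map (π : B →ₐ[k] A) (π : B →ₐ[k] A) (Bialgebra.comulAlgHom k B b) :=
      (CoalgHomClass.map_comp_comul_apply π b).symm
    rw [hc]
    have key : ∀ z : B ⊗[k] B, Algebra.TensorProduct.map (Ideal.Quotient.mkₐ k (kerIdeal π)) (Ideal.Quotient.mkₐ k (kerIdeal π))
        (Algebra.TensorProduct.map (π : B →ₐ[k] A) (π : B →ₐ[k] A) z) =
        algebraMap k _ (Algebra.TensorProduct.lift (eps k B) (eps k B) (fun _ _ => Commute.all _ _) z) := by
      intro z
      induction z using TensorProduct.induction_on with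
      | zero => simp
      | add u v hu hv => simp only [map_add, hu, hv]
      | tmul u v =>
        rw [Algebra.TensorProduct.map_tmul, Algebra.TensorProduct.map_tmul, Algebra.TensorProduct.lift_tmul,
          show Ideal.Quotient.mkₐ k (kerIdeal π) ((π : B →ₐ[k] A) u) = algebraMap k _ (eps k B u) from
            DFunLike.congr_fun (mk_comp_eq π) u,
          show Ideal.Quotient.mkₐ k (kerIdeal π) ((π : B →ₐ[k] A) v) = algebraMap k _ (eps k B v) from
            DFunLike.congr_fun (mk_comp_eq π) v, Algebra.algebraMap_eq_smul_one,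
          Algebra.algebraMap_eq_smul_one, TensorProduct.smul_tmul_smul, Algebra.algebraMap_eq_smul_one,
          Algebra.TensorProduct.one_def]
    refine (key _).trans ?_
    have h1 : Algebra.TensorProduct.lift (eps k B) (eps k B) (fun _ _ => Commute.all _ _)
        (Bialgebra.comulAlgHom k B b) = eps k B b := by
      have h := congrArg (fun f : WithConv (B →ₐ[k] k) => f.ofConv b)
        (_root_.mul_one (toConv (eps k B) : WithConv (B →ₐ[k] k)))
      have h' : (toConv (eps k B) : WithConv (B →ₐ[k] k)) = 1 := rfl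
      rw [← h'] at h
      rw [AlgHom.convMul_apply] at h
      exact h
    rw [h1]
    exact (congrArg _ hb).trans (map_zero _)

section Frob

variable (q : ℕ)

/-- The ideal of `q`-th powers of the augmentation ideal. -/
def powIdeal (k B : Type u) [Field k] [CommRing B] [HopfAlgebra k B] (q : ℕ) : Ideal B :=
  Ideal.span ((fun b : B => b ^ q) '' {b | eps k B b = 0})

theorem powIdeal_le (hq : 0 < q) : powIdeal k B q ≤ (RingHom.ker (eps k B)) ^ q := by
  rw [powIdeal, Ideal.span_le]
  rintro _ ⟨b, hb, rfl⟩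
  exact Ideal.pow_mem_pow hb q

variable (p n : ℕ) [Fact p.Prime] [CharP k p] (hq : q = p ^ n)

include hq in
theorem mk_pow (b : B) :
    (Ideal.Quotient.mkₐ k (powIdeal k B q) b) ^ q = algebraMap k _ (eps k B b ^ q) := by
  haveI : Nontrivial B := (eps k B).toRingHom.domain_nontrivial
  haveI : CharP B p := charP_of_injective_algebraMap (algebraMap k B).injective p
  have h : (b - algebraMap k B (eps k B b)) ^ q ∈ powIdeal k B q := Ideal.subset_span ⟨_, sub_eps_mem b, rfl⟩
  rw [← map_pow, ← sub_eq_zero]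
  subst hq
  rw [sub_pow_char_pow, ← map_pow] at h
  rw [← AlgHom.commutes (Ideal.Quotient.mkₐ k (powIdeal k B (p ^ n))), ← map_sub]
  exact Ideal.Quotient.eq_zero_iff_mem.2 h

include hq in
theorem isHopfIdeal_powIdeal : (powIdeal k B q).IsHopfIdeal k := by
  have hq0 : q ≠ 0 := hq ▸ pow_ne_zero _ (Fact.out : p.Prime).ne_zero
  refine isHopfIdeal_span _ ?_ ?_ ?_
  · rintro _ ⟨b, hb, rfl⟩
    show eps k B (b ^ q) = 0
    rw [map_pow, hb, zero_pow hq0]
  · rintro _ ⟨b, hb, rfl⟩
    refine Ideal.subset_span ⟨HopfAlgebra.antipodeAlgHom k B b, ?_, (map_pow _ _ _).symm⟩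
    exact (HopfAlgebra.counit_antipode b).trans hb
  · rintro _ ⟨b, hb, rfl⟩
    have key : ∀ z : B ⊗[k] B, (Algebra.TensorProduct.map (Ideal.Quotient.mkₐ k (powIdeal k B q))
        (Ideal.Quotient.mkₐ k (powIdeal k B q)) z) ^ q =
        algebraMap k _ (Algebra.TensorProduct.lift (eps k B) (eps k B) (fun _ _ => Commute.all _ _) z ^ q) := by
      intro z
      induction z using TensorProduct.induction_on with
      | zero => rw [map_zero, map_zero, zero_pow hq0, zero_pow hq0, map_zero]
      | add u v hu hv =>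
        haveI : CharP k p := ‹_›
        rcases subsingleton_or_nontrivial ((B ⧸ powIdeal k B q) ⊗[k] (B ⧸ powIdeal k B q)) with h | h
        · exact Subsingleton.elim _ _
        haveI : CharP ((B ⧸ powIdeal k B q) ⊗[k] (B ⧸ powIdeal k B q)) p :=
          charP_of_injective_algebraMap (algebraMap k _).injective p
        subst hq
        rw [map_add, map_add, add_pow_char_pow, hu, hv, add_pow_char_pow, map_add]
      | tmul u v =>
        rw [Algebra.TensorProduct.map_tmul, Algebra.TensorProduct.tmul_pow, mk_pow q p n hq u, mk_pow q p n hq v,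
          Algebra.TensorProduct.lift_tmul, mul_pow, Algebra.algebraMap_eq_smul_one,
          Algebra.algebraMap_eq_smul_one, TensorProduct.smul_tmul_smul, Algebra.algebraMap_eq_smul_one,
          Algebra.TensorProduct.one_def]
    show (Algebra.TensorProduct.map _ _) (Bialgebra.comulAlgHom k B (b ^ q)) = 0
    rw [map_pow, map_pow]
    refine (key _).trans ?_
    have h1 : Algebra.TensorProduct.lift (eps k B) (eps k B) (fun _ _ => Commute.all _ _)
        (Bialgebra.comulAlgHom k B b) = eps k B b := by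
      have h := congrArg (fun f : WithConv (B →ₐ[k] k) => f.ofConv b)
        (_root_.mul_one (toConv (eps k B) : WithConv (B →ₐ[k] k)))
      have h' : (toConv (eps k B) : WithConv (B →ₐ[k] k)) = 1 := rfl
      rw [← h'] at h
      rw [AlgHom.convMul_apply] at h
      exact h
    rw [h1]
    exact (congrArg (fun c : k => algebraMap k _ (c ^ q)) hb).trans (by rw [zero_pow hq0]; exact map_zero _)

include hq in
theorem finite_quot [Algebra.FiniteType k B] : Module.Finite k (B ⧸ powIdeal k B q) := by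
  haveI : Algebra.FiniteType k (B ⧸ powIdeal k B q) :=
    Algebra.FiniteType.of_surjective (Ideal.Quotient.mkₐ k _) Ideal.Quotient.mk_surjective
  have hq0 : 0 < q := hq ▸ pow_pos (Fact.out : p.Prime).pos _
  haveI : Algebra.IsIntegral k (B ⧸ powIdeal k B q) := ⟨fun x => by
    obtain ⟨b, rfl⟩ := Ideal.Quotient.mk_surjective x
    refine IsIntegral.of_pow hq0 ?_
    show IsIntegral k ((Ideal.Quotient.mkₐ k (powIdeal k B q) b) ^ q)
    rw [mk_pow q p n hq b]
    exact isIntegral_algebraMap⟩
  exact Algebra.IsIntegral.finite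

end Frob

/-- Points of the field extension detect maximal ideals. -/
theorem exists_pt_ker (K : Type u) [Field K] [Algebra k K] [IsAlgClosure k K] [Algebra.FiniteType k B] (M : Ideal B)
    [M.IsMaximal] : ∃ h : B →ₐ[k] K, ∀ b, h b = 0 ↔ b ∈ M := by
  letI := Ideal.Quotient.field M
  haveI : Module.Finite k (B ⧸ M) := finite_of_finite_type_of_isJacobsonRing k _
  haveI : IsAlgClosed K := IsAlgClosure.isAlgClosed k
  let j : (B ⧸ M) →ₐ[k] K := IsAlgClosed.lift
  refine ⟨j.comp (Ideal.Quotient.mkₐ k M), fun b => ?_⟩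
  show j (Ideal.Quotient.mk M b) = 0 ↔ _
  rw [map_eq_zero_iff j (RingHom.injective (j : (B ⧸ M) →+* K)), Ideal.Quotient.eq_zero_iff_mem]

/-- An ideal lying in all powers of the augmentation ideal vanishes near the unit. -/
theorem exists_mul_eq_zero [Algebra.FiniteType k B] {J : Ideal B} (hJ : ∀ n, J ≤ (RingHom.ker (eps k B)) ^ n) :
    ∃ s : B, eps k B s ≠ 0 ∧ ∀ x ∈ J, s * x = 0 := by
  classical
  haveI : IsNoetherianRing B := Algebra.FiniteType.isNoetherianRing k B
  let m : Ideal B := RingHom.ker (eps k B)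
  haveI : m.IsMaximal := RingHom.ker_isMaximal_of_surjective _ fun c => ⟨algebraMap k B c, (eps k B).commutes c⟩
  let L := Localization.AtPrime m
  have hloc : ∀ x ∈ J, ∃ s : B, eps k B s ≠ 0 ∧ s * x = 0 := by
    intro x hx
    have h0 : algebraMap B L x = 0 := by
      have hmem : algebraMap B L x ∈ ⨅ i : ℕ, IsLocalRing.maximalIdeal L ^ i := by
        rw [Submodule.mem_iInf]
        intro i
        have h := Ideal.mem_map_of_mem (algebraMap B L) (hJ i hx)
        rwa [Ideal.map_pow, Localization.AtPrime.map_eq_maximalIdeal] at h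
      rwa [Ideal.iInf_pow_eq_bot_of_isLocalRing _ (IsLocalRing.maximalIdeal.isMaximal L).ne_top] at hmem
    obtain ⟨⟨s, hs⟩, h⟩ := (IsLocalization.map_eq_zero_iff m.primeCompl L x).1 h0
    exact ⟨s, hs, h⟩
  obtain ⟨t, ht⟩ := (IsNoetherian.noetherian J : J.FG)
  have hxt : ∀ x : t, (x : B) ∈ J := fun x => ht ▸ Ideal.subset_span x.2
  choose s hs hsx using fun x : t => hloc x.1 (hxt x)
  refine ⟨∏ x, s x, ?_, fun x hx => ?_⟩
  · rw [map_prod]
    exact Finset.prod_ne_zero_iff.2 fun i _ => hs i
  · rw [← ht] at hx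
    induction hx using Submodule.span_induction with
    | mem y hy =>
      obtain ⟨c, hc⟩ := Finset.dvd_prod_of_mem s (Finset.mem_univ (⟨y, hy⟩ : t))
      rw [hc, _root_.mul_right_comm, hsx, zero_mul]
    | zero => rw [mul_zero]
    | add a b _ _ ha hb => rw [mul_add, ha, hb, add_zero]
    | smul a b _ hb => rw [smul_eq_mul, mul_left_comm, hb, mul_zero]

/-- A subgroup which is everything near the unit and on geometric points is everything. -/
theorem ker_eq_bot_of_mul_eq_zero (K : Type u) [Field K] [Algebra k K] [IsAlgClosure k K] [Algebra.FiniteType k B]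
    (π : B →ₐc[k] A) (hpts : ∀ h : B →ₐ[k] K, ∃ h₀ : A →ₐ[k] K, h₀.comp (π : B →ₐ[k] A) = h)
    {s : B} (hs : eps k B s ≠ 0) (hsJ : ∀ x, (π : B →ₐ[k] A) x = 0 → s * x = 0) :
    ∀ x, (π : B →ₐ[k] A) x = 0 → x = 0 := by
  intro x hx
  let a : Ideal B := (Submodule.span B {x}).annihilator
  by_contra hne
  have hane : a ≠ ⊤ := fun h => hne (by
    have h1 : (1 : B) ∈ a := h ▸ Submodule.mem_top
    rw [Submodule.mem_annihilator_span_singleton] at h1
    simpa using h1)
  obtain ⟨M, hM, haM⟩ := Ideal.exists_le_maximal a hane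
  obtain ⟨h, hh⟩ := exists_pt_ker (k := k) K M
  obtain ⟨h₀, rfl⟩ := hpts h
  -- translations
  let i : B →ₐ[k] K ⊗[k] B := Algebra.TensorProduct.includeRight
  let inc : K →ₐ[k] K ⊗[k] B := Algebra.TensorProduct.includeLeft
  let hb : WithConv (B →ₐ[k] K) := toConv (h₀.comp (π : B →ₐ[k] A))
  let post : WithConv (B →ₐ[k] K) →* WithConv (B →ₐ[k] K ⊗[k] B) := MonoidHom.mk' (fun g => toConv (inc.comp g.ofConv))
    fun g g' => by rw [AlgHom.comp_convMul_distrib]
  let τ : WithConv (B →ₐ[k] K) → (B →ₐ[k] K ⊗[k] B) := fun g => (toConv (inc.comp g.ofConv) * toConv i).ofConv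
  let Φ : WithConv (B →ₐ[k] K) → (K ⊗[k] B →ₐ[k] K ⊗[k] B) := fun g =>
    Algebra.TensorProduct.lift inc (τ g) fun _ _ => Commute.all _ _
  have hΦ : ∀ b : B, Φ hb⁻¹ (τ hb b) = (1 : K) ⊗ₜ[k] b := by
    have e : (Φ hb⁻¹).comp (τ hb) = i := by
      rw [show τ hb = (toConv (inc.comp hb.ofConv) * toConv i).ofConv from rfl, AlgHom.comp_convMul_distrib]
      have e1 : (Φ hb⁻¹).comp (inc.comp hb.ofConv) = inc.comp hb.ofConv := AlgHom.ext fun b => by
        show Φ hb⁻¹ (hb.ofConv b ⊗ₜ[k] (1 : B)) = _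
        simp [Φ, inc]
      have e2 : (Φ hb⁻¹).comp i = τ hb⁻¹ := AlgHom.ext fun b => by
        show Φ hb⁻¹ ((1 : K) ⊗ₜ[k] b) = _
        simp [Φ, inc, ← Algebra.TensorProduct.one_def]
      rw [ofConv_toConv, ofConv_toConv, e1, e2]
      show (post hb * (post hb⁻¹ * toConv i)).ofConv = i
      rw [← _root_.mul_assoc, ← map_mul, mul_inv_cancel, map_one, _root_.one_mul]
    exact fun b => DFunLike.congr_fun e b
  -- the translated ideal is killed by the element
  let m : K ⊗[k] B →ₐ[k] K ⊗[k] A := Algebra.TensorProduct.map (AlgHom.id k K) (π : B →ₐ[k] A)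
  have hm : ∀ b, (π : B →ₐ[k] A) b = 0 → m (τ hb b) = 0 := by
    have e : m.comp (τ hb) = ((toConv ((Algebra.TensorProduct.includeLeft : K →ₐ[k] K ⊗[k] A).comp h₀) *
        toConv (Algebra.TensorProduct.includeRight : A →ₐ[k] K ⊗[k] A)).ofConv).comp (π : B →ₐ[k] A) := by
      rw [show τ hb = (toConv (inc.comp hb.ofConv) * toConv i).ofConv from rfl, AlgHom.comp_convMul_distrib,
        AlgHom.convMul_comp_bialgHom_distrib]
      have e1 : m.comp (inc.comp hb.ofConv) =
          ((Algebra.TensorProduct.includeLeft : K →ₐ[k] K ⊗[k] A).comp h₀).comp (π : B →ₐ[k] A) :=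
        AlgHom.ext fun b => by simp [m, inc, hb]
      have e2 : m.comp i = (Algebra.TensorProduct.includeRight : A →ₐ[k] K ⊗[k] A).comp (π : B →ₐ[k] A) :=
        AlgHom.ext fun b => by simp [m, i]
      rw [ofConv_toConv, ofConv_toConv, e1, e2]
    intro b hb0
    refine (DFunLike.congr_fun e b).trans ?_
    rw [AlgHom.comp_apply, hb0, map_zero]
  have hkill : ∀ y : K ⊗[k] B, m y = 0 → ((1 : K) ⊗ₜ[k] s) * y = 0 := by
    intro y hy
    let f := (π : B →ₐ[k] A).toLinearMap
    have hex : Function.Exact (LinearMap.lTensor K (LinearMap.ker f).subtype) (LinearMap.lTensor K f) :=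
      Module.Flat.lTensor_exact K (LinearMap.exact_subtype_ker_map f)
    have hy' : LinearMap.lTensor K f y = 0 := by
      rw [← hy]
      show LinearMap.lTensor K f y = TensorProduct.map LinearMap.id f y
      rfl
    obtain ⟨w, rfl⟩ := (hex y).1 hy'
    clear hy hy'
    induction w using TensorProduct.induction_on with
    | zero => simp
    | tmul c b =>
      rw [LinearMap.lTensor_tmul, Algebra.TensorProduct.tmul_mul_tmul]
      show ((1 : K) * c) ⊗ₜ[k] (s * (b : B)) = 0
      rw [hsJ _ b.2, TensorProduct.tmul_zero]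
    | add u v hu hv => rw [map_add, mul_add, hu, hv, add_zero]
  let S := τ hb⁻¹ s
  have hSx : S * ((1 : K) ⊗ₜ[k] x) = 0 := by
    have h1 := congrArg (Φ hb⁻¹) (hkill _ (hm x hx))
    rw [map_mul, map_zero, hΦ] at h1
    have e : Φ hb⁻¹ ((1 : K) ⊗ₜ[k] s) = S := by simp [Φ, inc, S, ← Algebra.TensorProduct.one_def]
    rwa [e] at h1
  -- evaluate
  let ev : K ⊗[k] B →ₐ[k] K := Algebra.TensorProduct.lift (AlgHom.id k K) hb.ofConv fun _ _ => Commute.all _ _
  have hevS : ev S = algebraMap k K (eps k B s) := by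
    have e : ev.comp (τ hb⁻¹) = (1 : WithConv (B →ₐ[k] K)).ofConv := by
      rw [show τ hb⁻¹ = (toConv (inc.comp hb⁻¹.ofConv) * toConv i).ofConv from rfl, AlgHom.comp_convMul_distrib]
      have e1 : ev.comp (inc.comp hb⁻¹.ofConv) = hb⁻¹.ofConv := AlgHom.ext fun b => by simp [ev, inc]
      have e2 : ev.comp i = hb.ofConv := AlgHom.ext fun b => by simp [ev, i]
      rw [ofConv_toConv, ofConv_toConv, e1, e2, toConv_ofConv, toConv_ofConv, inv_mul_cancel]
    exact DFunLike.congr_fun e s
  apply hs
  apply (algebraMap k K).injective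
  rw [map_zero, ← hevS]
  let bK := Module.Free.chooseBasis k K
  have hcoord : ∀ (y : K ⊗[k] B) (j), TensorProduct.equivFinsuppOfBasisLeft bK (y * ((1 : K) ⊗ₜ[k] x)) j =
      TensorProduct.equivFinsuppOfBasisLeft bK y j * x := by
    intro y j
    induction y using TensorProduct.induction_on with
    | zero => simp
    | tmul c b => simp [Algebra.TensorProduct.tmul_mul_tmul]
    | add u v hu hv => rw [add_mul, map_add, map_add, Finsupp.add_apply, Finsupp.add_apply, hu, hv, add_mul]
  have hS : S = (TensorProduct.equivFinsuppOfBasisLeft bK).symm (TensorProduct.equivFinsuppOfBasisLeft bK S) :=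
    (LinearEquiv.symm_apply_apply _ _).symm
  rw [hS, TensorProduct.equivFinsuppOfBasisLeft_symm_apply, Finsupp.sum, map_sum]
  refine Finset.sum_eq_zero fun j _ => ?_
  have hj : TensorProduct.equivFinsuppOfBasisLeft bK S j * x = 0 := by
    rw [← hcoord, hSx, map_zero, Finsupp.zero_apply]
  have hker : hb.ofConv (TensorProduct.equivFinsuppOfBasisLeft bK S j) = 0 :=
    (hh _).2 (haM ((Submodule.mem_annihilator_span_singleton _ _).2 hj))
  show ev (bK j ⊗ₜ[k] _) = 0
  rw [Algebra.TensorProduct.lift_tmul, hker, mul_zero]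

end Groth.Agent.FinTest
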